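import Cfsg.Agent.H62.Of.Machine

/-!
# S3938, `Ω⁺₈(5)`: certificates (helper62)
-/

set_option autoImplicit false
set_option maxRecDepth 100000

namespace Cfsg.Agent.H62.Of

/-- first generator -/
def xO : List (ℕ × ℕ) := [(0, 3), (7, 0), (1, 4), (2, 7), (0, 3), (7, 6)]

/-- second generator -/
def yO : List (ℕ × ℕ) := [(4, 5)]

theorem powO : ((List.range 8).all fun j => (apl xO)^[10] (ul j) == lin2 1 (elv 0 1 (ul j)) 0 (ul j)) = true := by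
  decide +kernel

/-- data -/
def dsO0 : List (List ℕ × (ℕ × ℕ) × (ℕ × ℕ)) :=
  [([], (1, 0), (0, 1)),
    ([1, 1, 1, 1, 0, 1, 0, 1, 0, 1, 1, 1, 0, 1, 1, 1, 1], (0, 4), (1, 0)),
    ([1, 0, 1, 1, 1, 0, 1, 0, 0, 1, 1, 0, 1, 1], (3, 4), (1, 0)),
    ([1, 1, 1, 1, 0, 0, 0, 1, 0, 0, 1, 1, 1, 1], (4, 0), (0, 1)),
    ([0, 1, 1, 1, 0, 0, 0, 0, 1, 0, 1], (2, 2), (1, 0)),
    ([0, 1, 0, 0, 1, 1, 0, 1, 0, 1, 0, 1, 1, 1], (4, 3), (1, 0))]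

/-- data -/
def csO0 : List (List ℕ) :=
  [[0, 1, 0, 0, 0, 0, 0, 0],
    [3, 4, 0, 2, 0, 1, 0, 3],
    [0, 0, 3, 1, 0, 2, 3, 1],
    [4, 1, 4, 2, 0, 0, 1, 3],
    [2, 0, 4, 0, 0, 0, 0, 1],
    [3, 4, 2, 4, 0, 2, 0, 3]]

/-- data -/
def mtsO0 : List (List ℕ × List ℕ) :=
  [([0, 1, 0, 0, 0, 0, 0], [0, 1, 0, 0, 0, 0, 0, 0]),
    ([3, 1, 2, 0, 0, 2, 4], [0, 0, 1, 0, 0, 0, 0, 0]),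
    ([4, 4, 4, 1, 2, 0, 2], [0, 0, 0, 1, 0, 0, 0, 0]),
    ([1, 0, 2, 3, 1, 1, 4], [0, 0, 0, 0, 0, 1, 0, 0]),
    ([3, 4, 3, 3, 2, 3, 3], [0, 0, 0, 0, 0, 0, 1, 0]),
    ([1, 1, 2, 0, 0, 3, 4], [0, 0, 0, 0, 0, 0, 0, 1])]

theorem chkO0 : chk [xO, yO] (ul 0) (ul 1) (ul 0) dsO0 csO0 mtsO0 = true := by
  decide +kernel

/-- data -/
def dsO1 : List (List ℕ × (ℕ × ℕ) × (ℕ × ℕ)) :=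
  [([0, 0, 0, 0, 0, 1, 1], (0, 2), (1, 0)),
    ([0, 1, 1, 0, 1, 1, 1, 1, 0, 1, 0, 1, 1, 1, 1], (0, 2), (1, 0)),
    ([0, 1, 0, 1, 1, 1, 1, 0, 1, 0, 0, 0, 1], (1, 2), (1, 0)),
    ([0, 1, 1, 1, 0, 1, 1, 0, 1, 1, 1, 0, 0, 1, 0, 1, 1, 1], (1, 0), (0, 1)),
    ([0, 1, 1, 1, 0, 1, 0, 0, 1, 1, 1, 0, 1, 1, 0, 1, 1, 1, 1], (3, 1), (1, 0)),
    ([0, 1, 1, 1, 0, 1, 1, 1, 1, 0, 0, 1, 1, 1, 0, 1, 1, 1, 0, 1], (1, 0), (0, 1))]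

/-- data -/
def csO1 : List (List ℕ) :=
  [[0, 0, 0, 0, 0, 2, 0, 0],
    [0, 2, 1, 1, 3, 3, 0, 4],
    [0, 4, 4, 0, 3, 4, 1, 4],
    [0, 4, 0, 1, 1, 2, 1, 2],
    [0, 4, 0, 1, 1, 3, 1, 3],
    [0, 2, 2, 0, 1, 3, 2, 4]]

/-- data -/
def mtsO1 : List (List ℕ × List ℕ) :=
  [([0, 4, 3, 3, 0, 2, 0], [0, 1, 0, 0, 0, 0, 0, 0]),
    ([0, 3, 2, 4, 4, 4, 4], [0, 0, 1, 0, 0, 0, 0, 0]),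
    ([2, 2, 3, 0, 0, 3, 1], [0, 0, 0, 1, 0, 0, 0, 0]),
    ([0, 3, 0, 0, 0, 0, 0], [0, 0, 0, 0, 0, 1, 0, 0]),
    ([2, 2, 0, 3, 3, 2, 4], [0, 0, 0, 0, 0, 0, 1, 0]),
    ([0, 2, 0, 0, 4, 1, 0], [0, 0, 0, 0, 0, 0, 0, 1])]

theorem chkO1 : chk [xO, yO] (ul 0) (ul 1) (ul 4) dsO1 csO1 mtsO1 = true := by
  decide +kernel

/-- first generator -/
def xS : List (ℕ × ℕ) := [(6, 3), (7, 6), (0, 1), (1, 7), (2, 1), (0, 5), (0, 3)]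

/-- second generator -/
def yS : List (ℕ × ℕ) := [(4, 2)]

theorem powS : ((List.range 8).all fun j => (apl xS)^[10] (ul j) == lin2 1 (elv 0 1 (ul j)) 0 (ul j)) = true := by
  decide +kernel

/-- data -/
def dsS0 : List (List ℕ × (ℕ × ℕ) × (ℕ × ℕ)) :=
  [([], (1, 0), (0, 1)),
    ([1, 0, 1, 1, 0, 1, 1, 1, 0, 1, 1, 1, 1, 0, 1, 1, 1, 0, 1], (4, 3), (1, 0)),
    ([1, 0, 1, 0, 1, 1, 1, 0, 0, 1, 0, 1, 1, 1, 1, 0, 1], (4, 0), (0, 1)),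
    ([1, 0, 1, 0, 1, 1, 1, 1, 0, 1, 0, 0, 1, 1, 0, 1, 1], (3, 3), (1, 0)),
    ([1, 1, 0, 1, 0, 1, 0, 0, 1, 1, 1, 1, 0, 1, 0, 1, 1], (1, 2), (1, 0)),
    ([1, 1, 1, 1, 0, 1, 0, 1, 0, 1, 0, 1, 1, 0, 1, 0, 1, 1], (4, 4), (1, 0))]

/-- data -/
def csS0 : List (List ℕ) :=
  [[0, 1, 0, 0, 0, 0, 0, 0],
    [2, 4, 3, 3, 0, 2, 2, 2],
    [2, 2, 2, 4, 0, 1, 3, 3],
    [1, 1, 4, 0, 0, 4, 4, 0],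
    [2, 3, 1, 4, 0, 1, 4, 2],
    [1, 4, 0, 3, 0, 2, 2, 4]]

/-- data -/
def mtsS0 : List (List ℕ × List ℕ) :=
  [([0, 1, 0, 0, 0, 0, 0], [0, 1, 0, 0, 0, 0, 0, 0]),
    ([2, 2, 4, 3, 0, 3, 3], [0, 0, 1, 0, 0, 0, 0, 0]),
    ([4, 2, 2, 1, 4, 1, 4], [0, 0, 0, 1, 0, 0, 0, 0]),
    ([1, 0, 4, 3, 4, 1, 4], [0, 0, 0, 0, 0, 1, 0, 0]),
    ([3, 4, 2, 4, 0, 1, 3], [0, 0, 0, 0, 0, 0, 1, 0]),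
    ([1, 3, 3, 2, 0, 2, 0], [0, 0, 0, 0, 0, 0, 0, 1])]

theorem chkS0 : chk [xS, yS] (ul 0) (ul 1) (ul 0) dsS0 csS0 mtsS0 = true := by
  decide +kernel

/-- data -/
def dsS1 : List (List ℕ × (ℕ × ℕ) × (ℕ × ℕ)) :=
  [([0, 0, 1, 1, 1, 1, 0, 1, 0, 1, 1, 0, 1, 1], (3, 2), (1, 0)),
    ([0, 1, 1, 0, 0, 0, 0, 1, 1, 0, 1], (2, 2), (1, 0)),
    ([0, 1, 1, 1, 1, 0, 0, 0, 0, 1, 0, 1, 1], (2, 2), (1, 0)),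
    ([0, 0, 1, 1, 1, 1, 0, 1, 0, 1, 1, 0, 1, 1, 0, 1], (0, 2), (1, 0)),
    ([0, 1, 1, 1, 0, 1, 0, 1, 0, 1, 1, 1, 0, 0, 1, 1], (3, 0), (0, 1)),
    ([0, 1, 0, 0, 1, 0, 1, 0, 0, 1, 1, 0, 1, 1, 1, 1], (1, 2), (1, 0))]

/-- data -/
def csS1 : List (List ℕ) :=
  [[0, 1, 2, 0, 2, 2, 4, 3],
    [0, 4, 2, 1, 4, 1, 0, 1],
    [0, 4, 1, 1, 4, 1, 0, 1],
    [0, 2, 2, 0, 0, 2, 3, 1],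
    [0, 3, 2, 0, 0, 0, 0, 1],
    [0, 0, 1, 4, 1, 3, 0, 0]]

/-- data -/
def mtsS1 : List (List ℕ × List ℕ) :=
  [([3, 1, 4, 2, 2, 4, 1], [0, 1, 0, 0, 0, 0, 0, 0]),
    ([0, 0, 1, 4, 0, 0, 0], [0, 0, 1, 0, 0, 0, 0, 0]),
    ([0, 3, 3, 2, 1, 0, 4], [0, 0, 0, 1, 0, 0, 0, 0]),
    ([3, 1, 4, 1, 2, 0, 0], [0, 0, 0, 0, 0, 1, 0, 0]),
    ([4, 3, 2, 0, 3, 1, 2], [0, 0, 0, 0, 0, 0, 1, 0]),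
    ([1, 2, 1, 1, 4, 4, 2], [0, 0, 0, 0, 0, 0, 0, 1])]

theorem chkS1 : chk [xS, yS] (ul 0) (ul 1) (ul 4) dsS1 csS1 mtsS1 = true := by
  decide +kernel

/-- first generator -/
def xR : List (ℕ × ℕ) := [(7, 2), (6, 0), (2, 3), (3, 6), (0, 5), (4, 1), (6, 7), (3, 6), (2, 1)]

/-- second generator -/
def yR : List (ℕ × ℕ) := [(7, 2), (6, 4), (2, 3), (3, 6), (4, 5), (0, 1), (6, 7), (3, 6), (2, 1)]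

theorem powR : ((List.range 8).all fun j => (apl xR)^[12] (ul j) == lin2 1 (elv 0 1 (ul j)) 0 (ul j)) = true := by
  decide +kernel

/-- data -/
def dsR0 : List (List ℕ × (ℕ × ℕ) × (ℕ × ℕ)) :=
  [([], (1, 0), (0, 1)),
    ([0, 0, 1, 1, 1], (0, 1), (1, 0)),
    ([0, 0, 0, 0, 0, 1, 1, 1], (0, 4), (1, 0)),
    ([0, 0, 1, 1, 1, 1, 1, 1], (0, 4), (1, 0)),
    ([0, 1, 0, 0, 1, 1, 0, 1, 1], (0, 1), (1, 0)),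
    ([1, 0, 0, 0, 0, 0, 0, 0, 0, 0, 0, 1], (1, 4), (1, 0))]

/-- data -/
def csR0 : List (List ℕ) :=
  [[0, 1, 0, 0, 0, 0, 0, 0],
    [3, 2, 1, 3, 0, 1, 0, 1],
    [1, 4, 2, 1, 0, 4, 3, 3],
    [3, 1, 0, 1, 0, 3, 2, 2],
    [4, 2, 1, 0, 0, 2, 1, 3],
    [0, 1, 1, 1, 0, 0, 1, 4]]

/-- data -/
def mtsR0 : List (List ℕ × List ℕ) :=
  [([0, 1, 0, 0, 0, 0, 0], [0, 1, 0, 0, 0, 0, 0, 0]),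
    ([1, 0, 1, 4, 3, 2, 0], [0, 0, 1, 0, 0, 0, 0, 0]),
    ([4, 3, 2, 1, 3, 0, 1], [0, 0, 0, 1, 0, 0, 0, 0]),
    ([3, 2, 2, 3, 2, 3, 4], [0, 0, 0, 0, 0, 1, 0, 0]),
    ([1, 3, 4, 0, 0, 3, 3], [0, 0, 0, 0, 0, 0, 1, 0]),
    ([1, 2, 2, 0, 1, 0, 3], [0, 0, 0, 0, 0, 0, 0, 1])]

theorem chkR0 : chk [xR, yR] (ul 0) (ul 1) (ul 0) dsR0 csR0 mtsR0 = true := by
  decide +kernel

/-- data -/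
def dsR1 : List (List ℕ × (ℕ × ℕ) × (ℕ × ℕ)) :=
  [([1, 1], (0, 4), (1, 0)),
    ([1, 1, 1, 1, 1], (0, 1), (1, 0)),
    ([1, 0, 1, 1, 0, 0, 1], (4, 0), (0, 1)),
    ([1, 1, 0, 0, 0, 1, 1, 1], (0, 4), (1, 0)),
    ([1, 1, 1, 1, 1, 1, 1, 1], (0, 4), (1, 0)),
    ([1, 1, 1, 1, 0, 1, 1, 0, 0, 1], (1, 0), (0, 1))]

/-- data -/
def csR1 : List (List ℕ) :=
  [[0, 4, 0, 1, 0, 1, 4, 1],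
    [0, 1, 1, 1, 1, 4, 2, 4],
    [0, 4, 4, 1, 2, 3, 0, 3],
    [0, 3, 2, 4, 4, 2, 0, 1],
    [0, 0, 0, 4, 1, 1, 4, 0],
    [0, 0, 2, 3, 4, 2, 4, 4]]

/-- data -/
def mtsR1 : List (List ℕ × List ℕ) :=
  [([1, 3, 2, 0, 4, 1, 0], [0, 1, 0, 0, 0, 0, 0, 0]),
    ([1, 3, 1, 0, 4, 3, 1], [0, 0, 1, 0, 0, 0, 0, 0]),
    ([4, 0, 1, 3, 4, 0, 2], [0, 0, 0, 1, 0, 0, 0, 0]),
    ([3, 3, 4, 2, 2, 3, 2], [0, 0, 0, 0, 0, 1, 0, 0]),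
    ([0, 3, 3, 4, 3, 2, 0], [0, 0, 0, 0, 0, 0, 1, 0]),
    ([4, 4, 0, 4, 1, 0, 1], [0, 0, 0, 0, 0, 0, 0, 1])]

theorem chkR1 : chk [xR, yR] (ul 0) (ul 1) (ul 4) dsR1 csR1 mtsR1 = true := by
  decide +kernel

end Cfsg.Agent.H62.Of
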