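import Cfsg.Agent.H62.Of.CaseTwoB

/-!
# S3938, `Ω⁺₈(5)`: computing with root elements on lists (helper62)
-/

set_option autoImplicit false
set_option linter.unusedSectionVars false
set_option linter.style.haveILetI false

namespace Cfsg.Agent.H62.Of

open Module QuadraticMap Cfsg.Agent.LieClassical.OrthCore Cfsg.Agent.LieClassical.OrthTrans
  Cfsg.Agent.ClassicalGeometry.OrthAut1 Cfsg.Agent.ClassicalGeometry.OrthAut2
  Cfsg.Agent.ClassicalGeometry.OrthAut3
  Cfsg.Agent.LieClassical.QuadForms Cfsg.Agent.ClassicalGeometry.TrialityOct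
  Cfsg.Agent.ClassicalGeometry.Triality Cfsg.Agent.ClassicalGeometry.OrthSemi Cfsg.Agent.H198.TriAut
  Cfsg.Agent.H465.OEight

/-! ### lists -/

/-- add at a position -/
def addAt : ℕ → ℕ → List ℕ → List ℕ
  | _, _, [] => []
  | 0, a, x :: l => (x + a) % 5 :: l
  | n + 1, a, x :: l => x :: addAt n a l

theorem length_addAt (l : List ℕ) : ∀ (n a : ℕ), (addAt n a l).length = l.length := by
  induction l with
  | nil => intro n a; cases n <;> rfl
  | cons x l ih =>
    intro n a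
    cases n with
    | zero => rfl
    | succ n => show (addAt n a l).length + 1 = l.length + 1; rw [ih]

theorem getD_addAt (l : List ℕ) : ∀ (n a k : ℕ), n < l.length →
    (((addAt n a l).getD k 0 : ℕ) : R) = ((l.getD k 0 : ℕ) : R) + if k = n then (a : R) else 0 := by
  induction l with
  | nil => intro n a k h; exact absurd h (Nat.not_lt_zero _)
  | cons x l ih =>
    intro n a k h
    cases n with
    | zero =>
      cases k with
      | zero =>
        show (((x + a) % 5 : ℕ) : R) = (x : R) + if (0 : ℕ) = 0 then (a : R) else 0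
        rw [if_pos rfl, ZMod.natCast_mod, Nat.cast_add]
      | succ k =>
        show ((l.getD k 0 : ℕ) : R) = ((l.getD k 0 : ℕ) : R) + if k + 1 = 0 then (a : R) else 0
        rw [if_neg (Nat.succ_ne_zero k), add_zero]
    | succ n =>
      cases k with
      | zero =>
        show (x : R) = (x : R) + if (0 : ℕ) = n + 1 then (a : R) else 0
        rw [if_neg (Nat.succ_ne_zero n).symm, add_zero]
      | succ k =>
        show (((addAt n a l).getD k 0 : ℕ) : R) = ((l.getD k 0 : ℕ) : R) + if k + 1 = n + 1 then (a : R) else 0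
        rw [ih n a k (Nat.lt_of_succ_lt_succ h)]
        simp only [Nat.add_right_cancel_iff]

/-- admissible pairs -/
def ok (p r : ℕ) : Bool := decide (p < 8) && (decide (r < 8) && decide (r ≠ (p + 4) % 8))

theorem ok_iff {p r : ℕ} : ok p r = true ↔ p < 8 ∧ r < 8 ∧ r ≠ (p + 4) % 8 := by
  unfold ok
  rw [Bool.and_eq_true, Bool.and_eq_true, decide_eq_true_eq, decide_eq_true_eq, decide_eq_true_eq]

/-- the root element on lists -/
def elv (p r : ℕ) (l : List ℕ) : List ℕ :=
  if ok p r then addAt r (l.getD ((p + 4) % 8) 0) (addAt p (4 * l.getD ((r + 4) % 8) 0) l) else l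

theorem length_elv (p r : ℕ) (l : List ℕ) : (elv p r l).length = l.length := by
  unfold elv
  split
  · rw [length_addAt, length_addAt]
  · rfl

/-- the index -/
def dc (n : ℕ) : Fin 4 ⊕ Fin 4 := if h : n < 4 then .inl ⟨n, h⟩ else .inr ⟨n % 4, Nat.mod_lt _ (by norm_num)⟩

/-- the vector of a list -/
def toV (l : List ℕ) : V := fun s =>
  match s with
  | .inl i => ((l.getD i 0 : ℕ) : R)
  | .inr i => ((l.getD (i + 4) 0 : ℕ) : R)

theorem toV_dc (l : List ℕ) {n : ℕ} (hn : n < 8) : toV l (dc n) = ((l.getD n 0 : ℕ) : R) := by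
  unfold dc
  split
  · rfl
  · show ((l.getD (n % 4 + 4) 0 : ℕ) : R) = _
    have : n % 4 + 4 = n := by omega
    rw [this]

theorem dc_surj (s : Fin 4 ⊕ Fin 4) : ∃ n, n < 8 ∧ dc n = s := by
  rcases s with i | i
  · refine ⟨i, by omega, ?_⟩
    unfold dc
    rw [dif_pos i.2]
  · refine ⟨i + 4, by omega, ?_⟩
    unfold dc
    rw [dif_neg (by omega)]
    congr 1
    apply Fin.ext
    show ((i : ℕ) + 4) % 4 = i
    omega

theorem dc_inj {n m : ℕ} (hn : n < 8) (hm : m < 8) (h : dc n = dc m) : n = m := by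
  unfold dc at h
  split at h <;> split at h
  · exact congrArg Fin.val (Sum.inl.inj h)
  · exact absurd h (by simp)
  · exact absurd h (by simp)
  · have := congrArg Fin.val (Sum.inr.inj h)
    simp only at this
    omega

theorem dc_swap {n : ℕ} (hn : n < 8) : (dc n).swap = dc ((n + 4) % 8) := by
  interval_cases n <;> rfl

/-- basis vectors -/
def bv (s : Fin 4 ⊕ Fin 4) : V := Pi.single s 1

theorem Q_bv (s : Fin 4 ⊕ Fin 4) : Q (bv s) = 0 := by
  rcases s with i | i
  · exact Q_e i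
  · exact Q_f i

theorem polar_bv (s : Fin 4 ⊕ Fin 4) (v : V) : polar Q (bv s) v = v s.swap := by
  rcases s with i | i
  · exact polar_e v i
  · exact polar_f v i

theorem polar_bv_bv {p r : ℕ} (h : ok p r = true) : polar Q (bv (dc p)) (bv (dc r)) = 0 := by
  obtain ⟨hp, hr, hne⟩ := ok_iff.1 h
  rw [polar_bv, dc_swap hp]
  have h1 : dc ((p + 4) % 8) ≠ dc r := fun h2 => hne (dc_inj (Nat.mod_lt _ (by norm_num)) hr h2).symm
  exact Pi.single_eq_of_ne h1 _

/-- the root element -/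
noncomputable def rel (p r : ℕ) : ↥(E Q) :=
  if h : ok p r = true then sg (bv (dc p)) (bv (dc r)) (Q_bv _) (polar_bv_bv h) else 1

theorem rel_apply (p r : ℕ) {l : List ℕ} (hl : l.length = 8) :
    ((rel p r : ↥(E Q)) : V ≃ₗ[R] V) (toV l) = toV (elv p r l) := by
  unfold rel elv
  by_cases h : ok p r = true
  · rw [dif_pos h, if_pos h, sg_apply, Q_bv]
    obtain ⟨hp, hr, hne⟩ := ok_iff.1 h
    rw [polar_bv, polar_bv, dc_swap hp, dc_swap hr, toV_dc l (Nat.mod_lt _ (by norm_num)),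
      toV_dc l (Nat.mod_lt _ (by norm_num))]
    funext s
    obtain ⟨n, hn, rfl⟩ := dc_surj s
    rw [toV_dc _ hn, getD_addAt _ _ _ _ (by rw [length_addAt, hl]; exact hr),
      getD_addAt _ _ _ _ (by rw [hl]; exact hp)]
    simp only [Pi.add_apply, Pi.sub_apply, Pi.smul_apply, smul_eq_mul, zero_mul, toV_dc l hn]
    have e1 : bv (dc r) (dc n) = if n = r then (1 : R) else 0 := by
      by_cases h1 : n = r
      · rw [if_pos h1, h1]; exact Pi.single_eq_same _ _
      · rw [if_neg h1]; exact Pi.single_eq_of_ne (fun h2 => h1 (dc_inj hn hr h2)) _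
    have e2 : bv (dc p) (dc n) = if n = p then (1 : R) else 0 := by
      by_cases h1 : n = p
      · rw [if_pos h1, h1]; exact Pi.single_eq_same _ _
      · rw [if_neg h1]; exact Pi.single_eq_of_ne (fun h2 => h1 (dc_inj hn hp h2)) _
    rw [e1, e2]
    have e4 : ((4 * l.getD ((r + 4) % 8) 0 : ℕ) : R) = -((l.getD ((r + 4) % 8) 0 : ℕ) : R) := by
      rw [Nat.cast_mul]
      have : ((4 : ℕ) : R) = -1 := by decide
      rw [this]; ring
    rw [e4]
    split <;> split <;> ring
  · rw [dif_neg h, if_neg h]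
    rfl

/-- words -/
def apl (w : List (ℕ × ℕ)) (l : List ℕ) : List ℕ := w.foldr (fun p l => elv p.1 p.2 l) l

/-- words -/
noncomputable def gen (w : List (ℕ × ℕ)) : ↥(E Q) := (w.map fun p => rel p.1 p.2).prod

theorem length_apl (w : List (ℕ × ℕ)) (l : List ℕ) : (apl w l).length = l.length := by
  induction w with
  | nil => rfl
  | cons p w ih => exact (length_elv _ _ _).trans ih

theorem gen_apply (w : List (ℕ × ℕ)) {l : List ℕ} (hl : l.length = 8) :
    ((gen w : ↥(E Q)) : V ≃ₗ[R] V) (toV l) = toV (apl w l) := by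
  induction w with
  | nil => rfl
  | cons p w ih =>
    have h1 : gen (p :: w) = rel p.1 p.2 * gen w := by
      unfold gen; rw [List.map_cons, List.prod_cons]
    rw [h1]
    show ((rel p.1 p.2 : ↥(E Q)) : V ≃ₗ[R] V) (((gen w : ↥(E Q)) : V ≃ₗ[R] V) (toV l)) = _
    rw [ih, rel_apply _ _ (by rw [length_apl, hl])]
    rfl

theorem gen_pow_apply (w : List (ℕ × ℕ)) (m : ℕ) : ∀ {l : List ℕ} (_ : l.length = 8),
    (((gen w) ^ m : ↥(E Q)) : V ≃ₗ[R] V) (toV l) = toV ((apl w)^[m] l) := by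
  induction m with
  | zero => intro l _; rfl
  | succ m ih =>
    intro l hl
    rw [pow_succ, Function.iterate_succ_apply]
    show (((gen w) ^ m : ↥(E Q)) : V ≃ₗ[R] V) (((gen w : ↥(E Q)) : V ≃ₗ[R] V) (toV l)) = _
    rw [gen_apply w hl, ih (by rw [length_apl, hl])]

/-- linear combinations -/
def lin2 (α : ℕ) (a : List ℕ) (β : ℕ) (b : List ℕ) : List ℕ := List.zipWith (fun x y => (α * x + β * y) % 5) a b

theorem length_lin2 {α : ℕ} {a : List ℕ} {β : ℕ} {b : List ℕ} (ha : a.length = 8) (hb : b.length = 8) :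
    (lin2 α a β b).length = 8 := by
  unfold lin2
  rw [List.length_zipWith, ha, hb]; rfl

theorem toV_lin2 {α : ℕ} {a : List ℕ} {β : ℕ} {b : List ℕ} (ha : a.length = 8) (hb : b.length = 8) :
    toV (lin2 α a β b) = (α : R) • toV a + (β : R) • toV b := by
  funext s
  obtain ⟨n, hn, rfl⟩ := dc_surj s
  show toV (lin2 α a β b) (dc n) = (α : R) * toV a (dc n) + (β : R) * toV b (dc n)
  rw [toV_dc _ hn, toV_dc _ hn, toV_dc _ hn]
  have hna : n < a.length := by rw [ha]; exact hn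
  have hnb : n < b.length := by rw [hb]; exact hn
  have hnc : n < (lin2 α a β b).length := by rw [length_lin2 ha hb]; exact hn
  rw [List.getD_eq_getElem _ _ hna, List.getD_eq_getElem _ _ hnb, List.getD_eq_getElem _ _ hnc]
  have e : (lin2 α a β b)[n] = (α * a[n] + β * b[n]) % 5 := List.getElem_zipWith ..
  rw [e, ZMod.natCast_mod, Nat.cast_add, Nat.cast_mul, Nat.cast_mul]

/-! ### subgroups -/

theorem rt_conj (g : ↥(E Q)) {u w : V} (hu : Q u = 0) (hw : polar Q u w = 0) :
    rt ((g : V ≃ₗ[R] V) u) ((g : V ≃ₗ[R] V) w) = (g : PP) * rt u w * (g : PP)⁻¹ := by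
  have hu' : Q ((g : V ≃ₗ[R] V) u) = 0 := (Q_apply g u).trans hu
  have hw' : polar Q ((g : V ≃ₗ[R] V) u) ((g : V ≃ₗ[R] V) w) = 0 := (polar_apply g u w).trans hw
  rw [rt_eq hu hw, rt_eq hu' hw', ← sg_conj g hu hw hu' hw']
  rfl

/-- the line of two lists -/
def InK (K : Subgroup PP) (a b : List ℕ) : Prop :=
  a.length = 8 ∧ b.length = 8 ∧ Q (toV a) = 0 ∧ Q (toV b) = 0 ∧ polar Q (toV a) (toV b) = 0 ∧
    rt (toV a) (toV b) ∈ K

theorem InK.step {K : Subgroup PP} {a b : List ℕ} (h : InK K a b) {w : List (ℕ × ℕ)}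
    (hw : ((gen w : ↥(E Q)) : PP) ∈ K) : InK K (apl w a) (apl w b) := by
  obtain ⟨h1, h2, h3, h4, h5, h6⟩ := h
  refine ⟨by rw [length_apl, h1], by rw [length_apl, h2], ?_, ?_, ?_, ?_⟩
  · rw [← gen_apply w h1]; exact (Q_apply _ _).trans h3
  · rw [← gen_apply w h2]; exact (Q_apply _ _).trans h4
  · rw [← gen_apply w h1, ← gen_apply w h2]; exact (polar_apply _ _ _).trans h5
  · rw [← gen_apply w h1, ← gen_apply w h2, rt_conj _ h3 h5]
    exact K.mul_mem (K.mul_mem hw h6) (K.inv_mem hw)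

/-- running a word in the generators -/
def run (gs : List (List (ℕ × ℕ))) (W : List ℕ) (l : List ℕ) : List ℕ :=
  W.foldr (fun k l => apl (gs.getD k []) l) l

theorem InK.run {K : Subgroup PP} {a b : List ℕ} (h : InK K a b) {gs : List (List (ℕ × ℕ))}
    (hgs : ∀ w ∈ gs, ((gen w : ↥(E Q)) : PP) ∈ K) (W : List ℕ) : InK K (Of.run gs W a) (Of.run gs W b) := by
  induction W with
  | nil => exact h
  | cons k W ih =>
    refine InK.step ih (w := gs.getD k []) ?_
    by_cases hk : k < gs.length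
    · rw [List.getD_eq_getElem _ _ hk]
      exact hgs _ (List.getElem_mem hk)
    · rw [List.getD_eq_default _ _ (by omega)]
      exact one_mem K

/-- the vectors `w` with `rt u w ∈ K` -/
def SK (K : Subgroup PP) {u : V} (hu : Q u = 0) : Submodule R V where
  carrier := {w | polar Q u w = 0 ∧ rt u w ∈ K}
  add_mem' := fun {w w'} h h' => ⟨by rw [polar_add_right, h.1, h'.1, add_zero], by
    rw [← rt_mul hu h.1 h'.1]; exact K.mul_mem h.2 h'.2⟩
  zero_mem' := ⟨polar_zero_right _ _, by rw [rt_zero hu]; exact one_mem K⟩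
  smul_mem' := fun c {w} h => ⟨by rw [polar_smul_right, h.1, smul_zero], by
    rw [rt_smul hu h.1]; exact K.pow_mem h.2 _⟩

theorem mem_SK {K : Subgroup PP} {u : V} (hu : Q u = 0) {w : V} : w ∈ SK K hu ↔ polar Q u w = 0 ∧ rt u w ∈ K :=
  Iff.rfl

theorem self_mem_SK {K : Subgroup PP} {u : V} (hu : Q u = 0) : u ∈ SK K hu := by
  refine ⟨polar_self_of_sing hu, ?_⟩
  have h1 := rt_add hu (polar_zero_right _ u) 1
  rw [zero_add, one_smul, rt_zero hu] at h1
  rw [h1]; exact one_mem K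

/-- the vector of one item -/
def cvec (gs : List (List (ℕ × ℕ))) (a b : List ℕ) (d : List ℕ × (ℕ × ℕ) × (ℕ × ℕ)) : List ℕ :=
  lin2 d.2.2.1 (run gs d.1 a) d.2.2.2 (run gs d.1 b)

/-- the base point of one item -/
def uvec (gs : List (List (ℕ × ℕ))) (a b : List ℕ) (d : List ℕ × (ℕ × ℕ) × (ℕ × ℕ)) : List ℕ :=
  lin2 d.2.1.1 (run gs d.1 a) d.2.1.2 (run gs d.1 b)

theorem InK.cvec {K : Subgroup PP} {a b : List ℕ} (h : InK K a b) {gs : List (List (ℕ × ℕ))}
    (hgs : ∀ w ∈ gs, ((gen w : ↥(E Q)) : PP) ∈ K) (d : List ℕ × (ℕ × ℕ) × (ℕ × ℕ)) {u : List ℕ}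
    (hu : Q (toV u) = 0) (hd : uvec gs a b d = u) : toV (Of.cvec gs a b d) ∈ SK K hu := by
  obtain ⟨h1, h2, h3, h4, h5, h6⟩ := h.run hgs d.1
  have e1 : toV u = (d.2.1.1 : R) • toV (Of.run gs d.1 a) + (d.2.1.2 : R) • toV (Of.run gs d.1 b) := by
    rw [← hd]; exact toV_lin2 h1 h2
  have e2 : toV (Of.cvec gs a b d) = (d.2.2.1 : R) • toV (Of.run gs d.1 a) + (d.2.2.2 : R) • toV (Of.run gs d.1 b) :=
    toV_lin2 h1 h2
  rw [mem_SK, e2, e1]
  constructor
  · simp only [polar_add_left, polar_add_right, polar_smul_left, polar_smul_right, polar_self_of_sing h3,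
      polar_self_of_sing h4, h5, polar_comm Q (toV (Of.run gs d.1 b)) (toV (Of.run gs d.1 a)), smul_zero, add_zero]
  · rw [rt_alt h3 h4 h5, rt_smul h3 h5]
    exact K.pow_mem h6 _

/-- combinations of a list of vectors -/
def comb : List ℕ → List (List ℕ) → List ℕ
  | m :: ms, c :: cs => lin2 m c 1 (comb ms cs)
  | _, _ => [0, 0, 0, 0, 0, 0, 0, 0]

theorem toV_zero : toV [0, 0, 0, 0, 0, 0, 0, 0] = 0 := by
  funext s
  rcases s with i | i <;> fin_cases i <;> rfl

theorem comb_mem {W : Submodule R V} : ∀ (ms : List ℕ) (cs : List (List ℕ)), (∀ c ∈ cs, c.length = 8) →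
    (∀ c ∈ cs, toV c ∈ W) → (comb ms cs).length = 8 ∧ toV (comb ms cs) ∈ W := by
  intro ms
  induction ms with
  | nil =>
    intro cs _ _
    have : comb [] cs = [0, 0, 0, 0, 0, 0, 0, 0] := by cases cs <;> rfl
    rw [this, toV_zero]
    exact ⟨rfl, W.zero_mem⟩
  | cons m ms ih =>
    intro cs h1 h2
    cases cs with
    | nil =>
      show (comb (m :: ms) []).length = 8 ∧ _
      have : comb (m :: ms) [] = [0, 0, 0, 0, 0, 0, 0, 0] := rfl
      rw [this, toV_zero]
      exact ⟨rfl, W.zero_mem⟩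
    | cons c cs =>
      obtain ⟨h3, h4⟩ := ih cs (fun c hc => h1 c (List.mem_cons_of_mem _ hc)) (fun c hc =>
        h2 c (List.mem_cons_of_mem _ hc))
      have h5 : c.length = 8 := h1 c List.mem_cons_self
      refine ⟨length_lin2 h5 h3, ?_⟩
      show toV (lin2 m c 1 (comb ms cs)) ∈ W
      rw [toV_lin2 h5 h3]
      exact W.add_mem (W.smul_mem _ (h2 c List.mem_cons_self)) (W.smul_mem _ h4)

/-- the check -/
def chk (gs : List (List (ℕ × ℕ))) (a b u : List ℕ) (ds : List (List ℕ × (ℕ × ℕ) × (ℕ × ℕ))) (cs : List (List ℕ))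
    (mts : List (List ℕ × List ℕ)) : Bool :=
  ds.all (fun d => uvec gs a b d == u) && (ds.map (cvec gs a b) == cs && (cs.all (fun c => c.length == 8) &&
    (u.length == 8 && mts.all (fun p => comb p.1 (u :: cs) == p.2))))

theorem mem_of_chk {K : Subgroup PP} {a b : List ℕ} (h : InK K a b) {gs : List (List (ℕ × ℕ))}
    (hgs : ∀ w ∈ gs, ((gen w : ↥(E Q)) : PP) ∈ K) {u : List ℕ} (hu : Q (toV u) = 0)
    {ds : List (List ℕ × (ℕ × ℕ) × (ℕ × ℕ))} {cs : List (List ℕ)} {mts : List (List ℕ × List ℕ)}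
    (hc : chk gs a b u ds cs mts = true) : ∀ p ∈ mts, toV p.2 ∈ SK K hu := by
  unfold chk at hc
  simp only [Bool.and_eq_true, List.all_eq_true, beq_iff_eq] at hc
  obtain ⟨h1, h2, h3, h4, h5⟩ := hc
  intro p hp
  rw [← h5 p hp]
  refine (comb_mem (W := SK K hu) p.1 (u :: cs) ?_ ?_).2
  · intro c hc
    rcases List.mem_cons.1 hc with rfl | hc
    · exact h4
    · exact h3 c hc
  · intro c hc
    rcases List.mem_cons.1 hc with rfl | hc
    · exact self_mem_SK hu
    · rw [← h2] at hc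
      obtain ⟨d, hd, rfl⟩ := List.mem_map.1 hc
      exact h.cvec hgs d hu (h1 d hd)

/-- unit lists -/
def ul (n : ℕ) : List ℕ := addAt n 1 [0, 0, 0, 0, 0, 0, 0, 0]

theorem toV_ul {n : ℕ} (hn : n < 8) : toV (ul n) = bv (dc n) := by
  funext s
  obtain ⟨m, hm, rfl⟩ := dc_surj s
  rw [toV_dc _ hm]
  unfold ul
  rw [getD_addAt _ _ _ _ hn]
  have e0 : ([0, 0, 0, 0, 0, 0, 0, 0] : List ℕ).getD m 0 = 0 := by interval_cases m <;> rfl
  rw [e0, Nat.cast_zero, zero_add, Nat.cast_one]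
  by_cases h1 : m = n
  · unfold bv; rw [if_pos h1, h1, Pi.single_eq_same]
  · unfold bv; rw [if_neg h1, Pi.single_eq_of_ne (fun h2 => h1 (dc_inj hm hn h2))]

theorem toV_ul_e (i : Fin 4) : toV (ul i) = e i := by
  rw [toV_ul (by omega)]
  unfold bv dc
  rw [dif_pos i.2]
  rfl

theorem toV_ul_f (i : Fin 4) : toV (ul (i + 4)) = f i := by
  rw [toV_ul (by omega)]
  unfold bv dc
  rw [dif_neg (by omega)]
  have : (⟨((i : ℕ) + 4) % 4, Nat.mod_lt _ (by norm_num)⟩ : Fin 4) = i := Fin.ext (by show ((i : ℕ) + 4) % 4 = i; omega)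
  rw [this]
  rfl

end Cfsg.Agent.H62.Of
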