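import Cfsg.Agent.H62.Of.Data

/-!
# S3938, `Ω⁺₈(5)`: the three generation certificates (helper62)
-/

set_option autoImplicit false
set_option linter.unusedSectionVars false
set_option linter.style.haveILetI false

namespace Cfsg.Agent.H62.Of

open Module QuadraticMap Cfsg.Agent.LieClassical.OrthCore Cfsg.Agent.LieClassical.OrthTrans
  Cfsg.Agent.ClassicalGeometry.OrthAut1 Cfsg.Agent.ClassicalGeometry.OrthAut2
  Cfsg.Agent.ClassicalGeometry.OrthAut3
  Cfsg.Agent.LieClassical.QuadForms Cfsg.Agent.ClassicalGeometry.TrialityOct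
  Cfsg.Agent.ClassicalGeometry.Triality Cfsg.Agent.ClassicalGeometry.OrthSemi Cfsg.Agent.H198.TriAut
  Cfsg.Agent.H465.OEight

theorem sum_ef (w : V) : w = (w (.inl 0) • e 0 + w (.inl 1) • e 1 + w (.inl 2) • e 2 + w (.inl 3) • e 3) +
    (w (.inr 0) • f 0 + w (.inr 1) • f 1 + w (.inr 2) • f 2 + w (.inr 3) • f 3) := by
  funext j
  rcases j with i | i <;> fin_cases i <;> simp [e, f]

theorem top_of {K : Subgroup PP} (h1 : ∀ i : Fin 4, i ≠ 0 → e i ∈ SK K (Q_e 0)) (h2 : ∀ i : Fin 4, i ≠ 0 → f i ∈ SK K (Q_e 0))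
    (h3 : ∀ i : Fin 4, i ≠ 0 → e i ∈ SK K (Q_f 0)) (h4 : ∀ i : Fin 4, i ≠ 0 → f i ∈ SK K (Q_f 0)) : K = ⊤ := by
  have k1 : UP Q (Submodule.span R {e 0}) ≤ K := by
    intro p hp
    obtain ⟨w, hw, rfl⟩ := (mem_UP_span_iff hG.nondeg (Q_e 0) (e_ne 0)).1 hp
    rw [← rt_eq (Q_e 0) hw]
    have h5 : w (.inr 0) = 0 := by rw [polar_e] at hw; exact hw
    have h6 : w ∈ SK K (Q_e 0) := by
      rw [sum_ef w, h5, zero_smul, zero_add]
      exact Submodule.add_mem _ (Submodule.add_mem _ (Submodule.add_mem _ (Submodule.add_mem _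
        (Submodule.smul_mem _ _ (self_mem_SK _)) (Submodule.smul_mem _ _ (h1 1 (by decide))))
        (Submodule.smul_mem _ _ (h1 2 (by decide)))) (Submodule.smul_mem _ _ (h1 3 (by decide))))
        (Submodule.add_mem _ (Submodule.add_mem _ (Submodule.smul_mem _ _ (h2 1 (by decide)))
        (Submodule.smul_mem _ _ (h2 2 (by decide)))) (Submodule.smul_mem _ _ (h2 3 (by decide))))
    exact h6.2
  have k2 : UP Q (Submodule.span R {f 0}) ≤ K := by
    intro p hp
    obtain ⟨w, hw, rfl⟩ := (mem_UP_span_iff hG.nondeg (Q_f 0) (f_ne 0)).1 hp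
    rw [← rt_eq (Q_f 0) hw]
    have h5 : w (.inl 0) = 0 := by rw [polar_f] at hw; exact hw
    have h6 : w ∈ SK K (Q_f 0) := by
      rw [sum_ef w, h5, zero_smul, zero_add]
      exact Submodule.add_mem _ (Submodule.add_mem _ (Submodule.add_mem _
        (Submodule.smul_mem _ _ (h3 1 (by decide)))
        (Submodule.smul_mem _ _ (h3 2 (by decide)))) (Submodule.smul_mem _ _ (h3 3 (by decide))))
        (Submodule.add_mem _ (Submodule.add_mem _ (Submodule.add_mem _ (Submodule.smul_mem _ _ (self_mem_SK _))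
        (Submodule.smul_mem _ _ (h4 1 (by decide))))
        (Submodule.smul_mem _ _ (h4 2 (by decide)))) (Submodule.smul_mem _ _ (h4 3 (by decide))))
    exact h6.2
  by_contra hne
  have h5 := polar_eq_zero_of_mem_spanW hG hne (Submodule.subset_span ⟨Q_e 0, k1⟩) (Submodule.subset_span ⟨Q_f 0, k2⟩)
  rw [polar_ef, if_pos rfl] at h5
  exact one_ne_zero h5

/-- the data of one point -/
theorem pt_of {K : Subgroup PP} {g : List (List (ℕ × ℕ))} (hK : rt (e 0) (e 1) ∈ K)
    (hg : ∀ w ∈ g, ((gen w : ↥(E Q)) : PP) ∈ K) {k : ℕ} {u : V} (hu' : toV (ul k) = u) (hu : Q u = 0)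
    {ds : List (List ℕ × (ℕ × ℕ) × (ℕ × ℕ))} {cs : List (List ℕ)} {mts : List (List ℕ × List ℕ)}
    (hc : chk g (ul 0) (ul 1) (ul k) ds cs mts = true) (hm : mts.map Prod.snd = [ul 1, ul 2, ul 3, ul 5, ul 6, ul 7]) :
    (∀ i : Fin 4, i ≠ 0 → e i ∈ SK K hu) ∧ ∀ i : Fin 4, i ≠ 0 → f i ∈ SK K hu := by
  subst hu'
  have e0 : toV (ul 0) = e 0 := toV_ul_e 0
  have e1 : toV (ul 1) = e 1 := toV_ul_e 1
  have h0 : InK K (ul 0) (ul 1) := by
    refine ⟨rfl, rfl, ?_, ?_, ?_, ?_⟩
    · rw [e0]; exact Q_e 0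
    · rw [e1]; exact Q_e 1
    · rw [e0, e1]; exact polar_ee 0 1
    · rw [e0, e1]; exact hK
  have key : ∀ l ∈ ([ul 1, ul 2, ul 3, ul 5, ul 6, ul 7] : List (List ℕ)), toV l ∈ SK K hu := by
    intro l hl
    rw [← hm] at hl
    obtain ⟨p, hp, rfl⟩ := List.mem_map.1 hl
    exact mem_of_chk h0 hg hu hc p hp
  constructor
  · intro i hi
    rw [← toV_ul_e i]
    apply key
    fin_cases i
    · exact absurd rfl hi
    all_goals simp
  · intro i hi
    rw [← toV_ul_f i]
    apply key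
    fin_cases i
    · exact absurd rfl hi
    all_goals simp

theorem cert_top {K : Subgroup PP} {g : List (List (ℕ × ℕ))} (hK : rt (e 0) (e 1) ∈ K)
    (hg : ∀ w ∈ g, ((gen w : ↥(E Q)) : PP) ∈ K)
    {ds ds' : List (List ℕ × (ℕ × ℕ) × (ℕ × ℕ))} {cs cs' : List (List ℕ)} {mts mts' : List (List ℕ × List ℕ)}
    (hc : chk g (ul 0) (ul 1) (ul (4 * 0)) ds cs mts = true) (hm : mts.map Prod.snd = [ul 1, ul 2, ul 3, ul 5, ul 6, ul 7])
    (hc' : chk g (ul 0) (ul 1) (ul 4) ds' cs' mts' = true)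
    (hm' : mts'.map Prod.snd = [ul 1, ul 2, ul 3, ul 5, ul 6, ul 7]) : K = ⊤ := by
  obtain ⟨h1, h2⟩ := pt_of hK hg (k := 0) (toV_ul_e 0) (Q_e 0) hc hm
  obtain ⟨h3, h4⟩ := pt_of hK hg (k := 4) (toV_ul_f 0) (Q_f 0) hc' hm'
  exact top_of h1 h2 h3 h4

theorem rel_rt {p r : ℕ} (h : ok p r = true) : ((rel p r : ↥(E Q)) : PP) = rt (bv (dc p)) (bv (dc r)) := by
  rw [rt_eq (Q_bv _) (polar_bv_bv h)]
  unfold rel
  rw [dif_pos h]

theorem gen_single (p r : ℕ) : gen [(p, r)] = rel p r := by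
  unfold gen
  rw [List.map_singleton, List.prod_singleton]

/-- powers -/
theorem pow_mem {w : List (ℕ × ℕ)} {m c : ℕ}
    (h : ((List.range 8).all fun j => (apl w)^[m] (ul j) == lin2 c (elv 0 1 (ul j)) 0 (ul j)) = true) :
    rt (e 0) (e 1) ∈ Subgroup.zpowers ((gen w : ↥(E Q)) : PP) := by
  have h1 : ∀ j < 8, (((gen w) ^ m : ↥(E Q)) : V ≃ₗ[R] V) (toV (ul j)) =
      (c : R) • ((rel 0 1 : ↥(E Q)) : V ≃ₗ[R] V) (toV (ul j)) := by
    intro j hj
    rw [List.all_eq_true] at h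
    have h2 := h j (List.mem_range.2 hj)
    rw [beq_iff_eq] at h2
    have hl : (ul j).length = 8 := by unfold ul; rw [length_addAt]; rfl
    rw [gen_pow_apply w m hl, h2, toV_lin2 (by rw [length_elv, hl]) hl, rel_apply 0 1 hl, Nat.cast_zero, zero_smul,
      add_zero]
  have h2 : ((((gen w) ^ m : ↥(E Q)) : V ≃ₗ[R] V) : V →ₗ[R] V) =
      (c : R) • (((rel 0 1 : ↥(E Q)) : V ≃ₗ[R] V) : V →ₗ[R] V) := by
    apply ext_ef
    · intro i
      have := h1 i (by omega)
      rw [toV_ul_e] at this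
      exact this
    · intro i
      have := h1 (i + 4) (by omega)
      rw [toV_ul_f] at this
      exact this
  have h3 : ∀ v, (((rel 0 1)⁻¹ * (gen w) ^ m : ↥(E Q)) : V ≃ₗ[R] V) v = (c : R) • v := by
    intro v
    show ((rel 0 1 : ↥(E Q)) : V ≃ₗ[R] V).symm ((((gen w) ^ m : ↥(E Q)) : V ≃ₗ[R] V) v) = _
    have h4 : (((gen w) ^ m : ↥(E Q)) : V ≃ₗ[R] V) v = (c : R) • ((rel 0 1 : ↥(E Q)) : V ≃ₗ[R] V) v :=
      LinearMap.congr_fun h2 v
    rw [h4, map_smul, LinearEquiv.symm_apply_apply]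
  have h4 : (((gen w) ^ m : ↥(E Q)) : PP) = ((rel 0 1 : ↥(E Q)) : PP) :=
    (QuotientGroup.eq.2 (mem_center_of_scalar h3)).symm
  have h5 : ((rel 0 1 : ↥(E Q)) : PP) = rt (e 0) (e 1) := rel_rt (by decide)
  rw [← h5, ← h4]
  exact ⟨m, by show ((gen w : ↥(E Q)) : PP) ^ (m : ℤ) = _; rw [zpow_natCast]; rfl⟩

/-- the swap of indices -/
def si (n : ℕ) : ℕ := if n = 0 then 4 else if n = 4 then 0 else n

theorem ok_si {p r : ℕ} (h : ok p r = true) : ok (si p) (si r) = true := by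
  obtain ⟨hp, hr, -⟩ := ok_iff.1 h
  revert h
  interval_cases p <;> interval_cases r <;> decide

theorem ok_si' {p r : ℕ} (h : ok (si p) (si r) = true) : ok p r = true := by
  have h1 := ok_si h
  have hs : ∀ n, si (si n) = n := by
    intro n
    unfold si
    split
    · rename_i h; subst h; rfl
    · split
      · rename_i h; subst h; rfl
      · rfl
  rwa [hs, hs] at h1

theorem rho_bv {n : ℕ} (hn : n < 8) : rho.1 (bv (dc n)) = bv (dc (si n)) := by
  by_cases h4 : n < 4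
  · have h : bv (dc n) = e ⟨n, h4⟩ := by unfold bv dc; rw [dif_pos h4]; rfl
    rw [h]
    by_cases h0 : n = 0
    · subst h0
      exact rho_e0
    · rw [rho_e (fun h => h0 (congrArg Fin.val h))]
      have : si n = n := by unfold si; rw [if_neg h0, if_neg (by omega)]
      rw [this, h]
  · have h : bv (dc n) = f ⟨n % 4, Nat.mod_lt _ (by norm_num)⟩ := by unfold bv dc; rw [dif_neg h4]; rfl
    rw [h]
    by_cases h0 : n = 4
    · subst h0
      exact rho_f0
    · rw [rho_f (fun h => h0 (by have := congrArg Fin.val h; simp only [Fin.val_zero] at this; omega))]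
      have : si n = n := by unfold si; rw [if_neg (by omega), if_neg h0]
      rw [this, h]

theorem psi_rel (p r : ℕ) : psi rho ((rel p r : ↥(E Q)) : PP) = ((rel (si p) (si r) : ↥(E Q)) : PP) := by
  by_cases h : ok p r = true
  · obtain ⟨hp, hr, -⟩ := ok_iff.1 h
    rw [rel_rt h, rel_rt (ok_si h), psi_rt_one rho Q_rhoL (Q_bv _) (polar_bv_bv h), rho_bv hp, rho_bv hr]
  · have h' : ¬ ok (si p) (si r) = true := fun h1 => h (ok_si' h1)
    unfold rel
    rw [dif_neg h, dif_neg h']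
    exact map_one _

theorem psi_gen (w : List (ℕ × ℕ)) :
    psi rho ((gen w : ↥(E Q)) : PP) = ((gen (w.map fun p => (si p.1, si p.2)) : ↥(E Q)) : PP) := by
  induction w with
  | nil => exact map_one _
  | cons p w ih =>
    have h1 : gen (p :: w) = rel p.1 p.2 * gen w := by
      unfold gen; rw [List.map_cons, List.prod_cons]
    have h2 : gen ((p :: w).map fun p => (si p.1, si p.2)) =
        rel (si p.1) (si p.2) * gen (w.map fun p => (si p.1, si p.2)) := by
      unfold gen; rw [List.map_cons, List.map_cons, List.prod_cons]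
    rw [h1, h2, QuotientGroup.mk_mul, QuotientGroup.mk_mul, map_mul, psi_rel, ih]

theorem cert : Cert rho := by
  refine ⟨?_, ?_, ?_⟩
  · refine ⟨((gen xO : ↥(E Q)) : PP), pow_mem powO, fun K h1 h2 => ?_⟩
    refine cert_top (g := [xO, yO]) ((Subgroup.zpowers_le.2 h1) (pow_mem powO)) ?_ chkO0 (by decide +kernel) chkO1
      (by decide +kernel)
    intro w hw
    rcases List.mem_cons.1 hw with rfl | hw
    · exact h1
    · rw [List.mem_singleton] at hw
      subst hw
      have : gen yO = rel 4 5 := gen_single 4 5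
      rw [this, rel_rt (by decide)]
      exact h2
  · refine ⟨((gen xS : ↥(E Q)) : PP), pow_mem powS, fun K h1 h2 => ?_⟩
    refine cert_top (g := [xS, yS]) ((Subgroup.zpowers_le.2 h1) (pow_mem powS)) ?_ chkS0 (by decide +kernel) chkS1
      (by decide +kernel)
    intro w hw
    rcases List.mem_cons.1 hw with rfl | hw
    · exact h1
    · rw [List.mem_singleton] at hw
      subst hw
      have : gen yS = rel 4 2 := gen_single 4 2
      rw [this, rel_rt (by decide)]
      exact h2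
  · refine ⟨((gen xR : ↥(E Q)) : PP), fun K h1 h2 => ?_⟩
    refine cert_top (g := [xR, yR]) ((Subgroup.zpowers_le.2 h1) (pow_mem powR)) ?_ chkR0 (by decide +kernel) chkR1
      (by decide +kernel)
    intro w hw
    rcases List.mem_cons.1 hw with rfl | hw
    · exact h1
    · rw [List.mem_singleton] at hw
      subst hw
      have : yR = xR.map fun p => (si p.1, si p.2) := by decide +kernel
      rw [this, ← psi_gen]
      exact h2

end Cfsg.Agent.H62.Of
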